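import Groth.Agent.H4GenFib.Push
import Groth.Agent.ZClosLib.Basic
import Groth.Agent.QCoh.Support
import Groth.Agent.QCoh.Qcqs
import Groth.Agent.QCoh.Pullback
import Groth.Agent.LimMod.Exact
import Groth.Agent.AssLib.FlatFibre
import Groth.Agent.AssTensorSch.FibNoeth
import Groth.Agent.DimFormula.DedekindFlat
import Groth.Prelude.Def_FlatMod2
import Mathlib.AlgebraicGeometry.Fiber
import Mathlib.AlgebraicGeometry.FunctionField

/-!
Flat quasi-coherent quotients with prescribed generic fibre over a base of dimension at most one.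
-/

set_option autoImplicit false
set_option linter.style.haveILetI false
set_option backward.isDefEq.respectTransparency false
set_option backward.isDefEq.respectTransparency.types false

universe u

open CategoryTheory CategoryTheory.Limits AlgebraicGeometry TopologicalSpace Opposite

namespace Groth.Agent.H4GenFib

variable {X Y : Scheme.{u}}

theorem stalkMap_smul {M N : X.Modules} (φ : M ⟶ N) (x : X) (r : X.presheaf.stalk x) (y : M.presheaf.stalk x) :
    ZClosLib.stalkMap φ x (r • y) = r • ZClosLib.stalkMap φ x y := by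
  obtain ⟨U, hx, m, rfl⟩ := TopCat.Presheaf.exists_germ_eq M.presheaf y
  obtain ⟨V, hxV, a, rfl⟩ := X.presheaf.exists_germ_eq r
  have hxW : x ∈ U ⊓ V := ⟨hx, hxV⟩
  rw [← X.presheaf.germ_res_apply (homOfLE (inf_le_right : U ⊓ V ≤ V)) x hxW a,
    ← M.presheaf.germ_res_apply (homOfLE (inf_le_left : U ⊓ V ≤ U)) x hxW m, ← QCoh.germ_smul',
    ZClosLib.stalkMap_germ, ZClosLib.stalkMap_germ, Scheme.Modules.Hom.app_smul, QCoh.germ_smul']

variable [IsIntegral Y] (f : X ⟶ Y)

theorem mem_preimage_basicOpen {V : Y.Opens} {s : Γ(Y, V)} (hs : s ≠ 0) (p : ↥(f.fiber (genericPoint Y))) :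
    f (f.fiberι (genericPoint Y) p) ∈ Y.basicOpen s := by
  rw [(f.range_fiberι (genericPoint Y)).le ⟨p, rfl⟩]
  exact ((genericPoint_spec Y).mem_open_set_iff (Y.basicOpen s).isOpen).2 (by
    simpa using (TopologicalSpace.Opens.ne_bot_iff_nonempty (Y.basicOpen s)).1
      (mt (basicOpen_eq_bot_iff s).1 hs))

/-- Stalks of a direct image from the generic fibre are torsion free. -/
theorem torsionFree_push (M : (f.fiber (genericPoint Y)).Modules) (x : X) (a : Y.presheaf.stalk (f x))
    (ha : a ≠ 0) (n : ((Scheme.Modules.pushforward (f.fiberι (genericPoint Y))).obj M).presheaf.stalk x)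
    (hn : (f.stalkMap x).hom a • n = 0) : n = 0 := by
  let ι := f.fiberι (genericPoint Y)
  let P := (Scheme.Modules.pushforward ι).obj M
  obtain ⟨V, hV, s, rfl⟩ := Y.presheaf.exists_germ_eq a
  obtain ⟨U, hU, m, rfl⟩ := TopCat.Presheaf.exists_germ_eq P.presheaf n
  have hW0 : x ∈ f ⁻¹ᵁ V ⊓ U := ⟨hV, hU⟩
  let t := X.presheaf.map (homOfLE (inf_le_left : f ⁻¹ᵁ V ⊓ U ≤ f ⁻¹ᵁ V)).op (f.app V s)
  let m₀ := P.presheaf.map (homOfLE (inf_le_right : f ⁻¹ᵁ V ⊓ U ≤ U)).op m
  have h1 : P.presheaf.germ (f ⁻¹ᵁ V ⊓ U) x hW0 (t • m₀) =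
      P.presheaf.germ (f ⁻¹ᵁ V ⊓ U) x hW0 0 := by
    rw [QCoh.germ_smul', map_zero, TopCat.Presheaf.germ_res_apply, TopCat.Presheaf.germ_res_apply]
    exact (congrArg (· • P.presheaf.germ U x hU m) (f.germ_stalkMap_apply V x hV s)).symm.trans hn
  obtain ⟨W, hxW, i₁, i₂, h2⟩ := P.presheaf.germ_eq x hW0 hW0 _ _ h1
  rw [map_zero, QCoh.map_smul'] at h2
  have hs : s ≠ 0 := fun e => ha (by rw [e, map_zero])
  have hu : IsUnit (ι.app W (X.presheaf.map i₁.op t)) := by
    refine RingedSpace.isUnit_of_isUnit_germ (f.fiber (genericPoint Y)).toRingedSpace _ _ fun p hp => ?_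
    refine (Scheme.mem_basicOpen (f.fiber (genericPoint Y)) _ p hp).1 ?_
    rw [← Scheme.preimage_basicOpen, Scheme.basicOpen_res, Scheme.basicOpen_res, ← Scheme.preimage_basicOpen]
    exact ⟨hp, i₁.le hp, mem_preimage_basicOpen f hs p⟩
  have h3 : P.presheaf.map i₁.op m₀ = 0 := by
    let y : Γ(M, ι ⁻¹ᵁ W) := P.presheaf.map i₁.op m₀
    have h4 : ι.app W (X.presheaf.map i₁.op t) • y = 0 := h2
    have h5 : y = 0 := hu.smul_eq_zero.1 h4
    exact h5
  rw [← TopCat.Presheaf.germ_res_apply P.presheaf (homOfLE (inf_le_right : f ⁻¹ᵁ V ⊓ U ≤ U)) x hW0 m,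
    ← TopCat.Presheaf.germ_res_apply P.presheaf i₁ x hxW]
  exact (congrArg _ h3).trans (map_zero _)

/-- A submodule of a direct image from the generic fibre is flat over a base of dimension at most one. -/
theorem flat_of_mono [IsLocallyNoetherian Y]
    (hY : ∀ y : Y, IsRegularLocalRing (Y.presheaf.stalk y) ∧ ringKrullDim (Y.presheaf.stalk y) ≤ 1)
    {M : (f.fiber (genericPoint Y)).Modules} {G : X.Modules}
    (m : G ⟶ (Scheme.Modules.pushforward (f.fiberι (genericPoint Y))).obj M) [Mono m] :
    FlatMod.IsFlatOver f G := by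
  intro x
  haveI := (hY (f x)).1
  haveI := RegLoc6.isDomain_of_isRegularLocalRing (Y.presheaf.stalk (f x))
  haveI := DimFormula.isPrincipalIdealRing_of_regular_dim_le_one (hY (f x)).2
  letI := FlatMod.moduleStalkOver f G x
  show Module.Flat _ _
  rw [Module.Flat.flat_iff_torsion_eq_bot_of_isBezout, eq_bot_iff]
  rintro b ⟨⟨a, ha⟩, hab⟩
  have hab' : (f.stalkMap x).hom a • b = 0 := hab
  refine ZClosLib.stalkMap_injective_of_mono m x ((torsionFree_push f M x a (nonZeroDivisors.ne_zero ha) _ ?_).trans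
    (map_zero _).symm)
  rw [← stalkMap_smul, hab', map_zero]

theorem isAffineHom_fiberι : IsAffineHom (f.fiberι (genericPoint Y)) :=
  haveI := AssTensorSch.isAffineHom_fromSpecResidueField (Y := Y) (genericPoint Y)
  MorphismProperty.pullback_fst _ _ inferInstance

theorem flat_fiberι : Flat (f.fiberι (genericPoint Y)) := by
  haveI := AssLib.flat_fromSpecResidueField_genericPoint Y
  exact inferInstanceAs (Flat (pullback.fst f (Y.fromSpecResidueField (genericPoint Y))))

/-- A quasi-coherent module flat over the base embeds in the direct image of its generic fibre. -/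
theorem mono_unit {G : X.Modules} (hG : Coh.IsQCoh G) (hfl : FlatMod.IsFlatOver f G) :
    Mono ((Scheme.Modules.pullbackPushforwardAdjunction (f.fiberι (genericPoint Y))).unit.app G) := by
  let ι := f.fiberι (genericPoint Y)
  let adj := Scheme.Modules.pullbackPushforwardAdjunction ι
  haveI : IsAffineHom ι := isAffineHom_fiberι f
  haveI : Flat ι := flat_fiberι f
  haveI := LimMod.preservesHomology_pullback ι
  haveI := Functor.preservesFiniteLimits_of_preservesHomology (Scheme.Modules.pullback ι)
  refine Preadditive.mono_of_isZero_kernel _ ?_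
  set u := adj.unit.app G with hu
  have hK : Coh.IsQCoh (kernel u) :=
    QCoh.isQCoh_kernel hG (QCoh.isQCoh_pushforward ι (QCoh.isQCoh_pullback ι hG)) u
  haveI : Mono ((Scheme.Modules.pullback ι).map u) := by
    haveI : Mono ((Scheme.Modules.pullback ι).map u ≫ adj.counit.app _) := by
      have e := adj.left_triangle_components G
      rw [hu]
      exact (show (Scheme.Modules.pullback ι).map (adj.unit.app G) ≫
        adj.counit.app ((Scheme.Modules.pullback ι).obj G) = 𝟙 _ from e).symm ▸ inferInstance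
    exact mono_of_mono _ (adj.counit.app _)
  have h0 : (Scheme.Modules.pullback ι).map (kernel.ι u) = 0 := by
    rw [← cancel_mono ((Scheme.Modules.pullback ι).map u), ← Functor.map_comp, kernel.condition,
      Functor.map_zero, zero_comp]
  have hLK : IsZero ((Scheme.Modules.pullback ι).obj (kernel u)) := IsZero.of_mono_eq_zero _ h0
  have hstalk : ∀ z, Subsingleton ((kernel u).presheaf.stalk (ι z)) := fun z => by
    letI := (ι.stalkMap z).hom.toAlgebra
    haveI : Module.Flat (X.presheaf.stalk (ι z)) ((f.fiber (genericPoint Y)).presheaf.stalk z) :=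
      Flat.stalkMap ι z
    haveI : IsLocalHom (algebraMap (X.presheaf.stalk (ι z)) ((f.fiber (genericPoint Y)).presheaf.stalk z)) :=
      inferInstanceAs (IsLocalHom (ι.stalkMap z).hom)
    haveI := Module.FaithfullyFlat.of_flat_of_isLocalHom
      (A := X.presheaf.stalk (ι z)) (B := (f.fiber (genericPoint Y)).presheaf.stalk z)
    haveI : (DerSch.stalkFunctor (f.fiber (genericPoint Y)) z).Additive :=
      Functor.additive_of_preserves_binary_products _
    have h1 := (Functor.map_isZero (DerSch.stalkFunctor (f.fiber (genericPoint Y)) z) hLK).of_iso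
      ((KFlatLib.stalkPullbackIso ι z).app (kernel u)).symm
    haveI : Subsingleton (TensorProduct (X.presheaf.stalk (ι z)) ((f.fiber (genericPoint Y)).presheaf.stalk z)
        ((kernel u).presheaf.stalk (ι z))) := ModuleCat.subsingleton_of_isZero h1
    by_contra hne
    haveI : Nontrivial ((kernel u).presheaf.stalk (ι z)) := not_subsingleton_iff_nontrivial.1 hne
    haveI := (Module.FaithfullyFlat.nontrivial_tensorProduct_iff_right (R := X.presheaf.stalk (ι z))
      (M := (f.fiber (genericPoint Y)).presheaf.stalk z) (N := (kernel u).presheaf.stalk (ι z))).2 inferInstance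
    exact false_of_nontrivial_of_subsingleton (TensorProduct (X.presheaf.stalk (ι z))
      ((f.fiber (genericPoint Y)).presheaf.stalk z) ((kernel u).presheaf.stalk (ι z)))
  have hall : ∀ x, Subsingleton ((kernel u).presheaf.stalk x) := by
    intro x
    obtain ⟨_, ⟨V, hV, rfl⟩, hxV, -⟩ :=
      Y.isBasis_affineOpens.exists_subset_of_mem_open (Set.mem_univ (f x)) isOpen_univ
    obtain ⟨U, hU, hxU, hUV⟩ := exists_isAffineOpen_mem_and_subset (x := x) (U := f ⁻¹ᵁ V) hxV
    refine (QCoh.subsingleton_stalk_iff hK hU hxU).2 fun k => ?_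
    haveI : Nonempty V := ⟨⟨f x, hxV⟩⟩
    haveI : IsDomain Γ(Y, V) := inferInstance
    obtain ⟨a, ha, hak⟩ : ∃ a : Γ(Y, V), a ≠ 0 ∧ (f.appLE V U hUV).hom a • k = 0 := by
      by_contra! hc
      let S := (nonZeroDivisors Γ(Y, V)).map (f.appLE V U hUV).hom
      let I : Ideal Γ(X, U) := (⊥ : Submodule Γ(X, U) Γ(kernel u, U)).comap (LinearMap.toSpanSingleton _ _ k)
      have hdis : Disjoint (I : Set Γ(X, U)) (S : Set Γ(X, U)) := by
        rw [Set.disjoint_left]
        rintro _ hI ⟨a, ha, rfl⟩
        exact hc a (nonZeroDivisors.ne_zero ha) (by simpa [I] using hI)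
      obtain ⟨q, hq, hIq, hqS⟩ := Ideal.exists_le_prime_disjoint I S hdis
      obtain ⟨y, hy, hyq⟩ := QCoh.exists_point hU ⟨q, hq⟩
      have hfy : f y = genericPoint Y := by
        have hgen : genericPoint Y ∈ V :=
          ((genericPoint_spec Y).mem_open_set_iff V.2).2 ⟨f x, Set.mem_univ _, hxV⟩
        have hc1 := IsAffineOpen.comap_primeIdealOf_appLE (f := f) V hV U hU hUV hy
        have h2 : hV.primeIdealOf ⟨f y, hUV hy⟩ = hV.primeIdealOf ⟨genericPoint Y, hgen⟩ := by
          rw [hV.primeIdealOf_genericPoint, genericPoint_eq_bot_of_affine, ← hc1, hyq]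
          refine PrimeSpectrum.ext (eq_bot_iff.2 fun a ha => ?_)
          by_contra h0
          exact Set.disjoint_left.1 hqS (show (f.appLE V U hUV).hom a ∈ q from ha)
            ⟨a, mem_nonZeroDivisors_of_ne_zero h0, rfl⟩
        have h3 := congrArg hV.fromSpec h2
        rwa [hV.fromSpec_primeIdealOf, hV.fromSpec_primeIdealOf] at h3
      obtain ⟨z, rfl⟩ : y ∈ Set.range ι := by
        rw [Scheme.Hom.range_fiberι]
        exact hfy
      obtain ⟨g, hg, hgk⟩ := (QCoh.subsingleton_stalk_iff hK hU hy).1 (hstalk z) k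
      refine (QCoh.mem_basicOpen_iff_notMem hU hy g).1 hg ?_
      rw [hyq]
      exact hIq (by simpa [I] using hgk)
    have h1 : (kernel u).presheaf.germ U x hxU k = 0 := by
      refine ZClosLib.stalkMap_injective_of_mono (kernel.ι u) x (Eq.trans ?_ (map_zero _).symm)
      rw [ZClosLib.stalkMap_germ]
      letI := FlatMod.moduleStalkOver f G x
      haveI : Module.Flat (Y.presheaf.stalk (f x)) (G.presheaf.stalk x) := hfl x
      set b := G.presheaf.germ U x hxU ((kernel.ι u).app U k)
      haveI : IsDomain (Y.presheaf.stalk (f x)) := inferInstance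
      have hne : Y.presheaf.germ V (f x) hxV a ≠ 0 := fun h0 =>
        ha (germ_injective_of_isIntegral Y (f x) hxV (h0.trans (map_zero _).symm))
      have hab : Y.presheaf.germ V (f x) hxV a • b = 0 := by
        show (f.stalkMap x).hom (Y.presheaf.germ V (f x) hxV a) • b = 0
        have e : f.stalkMap x (Y.presheaf.germ V (f x) hxV a) = X.presheaf.germ U x hxU (f.appLE V U hUV a) := by
          rw [f.germ_stalkMap_apply V x hxV a, Scheme.Hom.appLE, ConcreteCategory.comp_apply,
            TopCat.Presheaf.germ_res_apply]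
        rw [show (f.stalkMap x).hom (Y.presheaf.germ V (f x) hxV a) = _ from e, ← QCoh.germ_smul',
          ← Scheme.Modules.Hom.app_smul, hak, map_zero, map_zero]
      have hT := Module.Flat.torsion_eq_bot (R := Y.presheaf.stalk (f x)) (M := G.presheaf.stalk x)
      have hb : b ∈ Submodule.torsion (Y.presheaf.stalk (f x)) (G.presheaf.stalk x) :=
        ⟨⟨_, mem_nonZeroDivisors_of_ne_zero hne⟩, hab⟩
      rwa [hT] at hb
    exact (QCoh.germ_eq_zero_iff hK hU hxU k).1 h1
  have : Mono (0 : kernel u ⟶ kernel u) := LimMod.mono_of_stalks _ fun x => by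
    rw [ModuleCat.mono_iff_injective]
    intro p q _
    exact (hall x).elim p q
  exact IsZero.of_mono_eq_zero _ (show (0 : kernel u ⟶ kernel u) = 0 from rfl)

end Groth.Agent.H4GenFib
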