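import Groth.Agent.QCoh.Localize
import Mathlib.AlgebraicGeometry.Modules.Sheaf
import Mathlib.Topology.Category.TopCat.Opens

/-!
Direct image along an embedding that is surjective on local rings is fully faithful.
-/

set_option autoImplicit false
set_option backward.isDefEq.respectTransparency false
set_option backward.isDefEq.respectTransparency.types false

universe u

open CategoryTheory AlgebraicGeometry TopologicalSpace Opposite Topology

namespace Groth.Agent.H4GenFib

variable {Z X : Scheme.{u}} (i : Z ⟶ X) (hi : IsInducing i.base) {M N : Z.Modules}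

theorem res_eq (F : Z.Modules) {V W : Z.Opens} (a b : V ⟶ W) (s : Γ(F, W)) :
    F.presheaf.map a.op s = F.presheaf.map b.op s := by
  rw [Subsingleton.elim a b]

theorem res_self (F : Z.Modules) {V : Z.Opens} (a : V ⟶ V) (s : Γ(F, V)) : F.presheaf.map a.op s = s := by
  rw [Subsingleton.elim a (𝟙 V), op_id, CategoryTheory.Functor.map_id]
  rfl

/-- The largest open pulling back to a given one. -/
abbrev fn (V : Z.Opens) : X.Opens := hi.functorObj V

theorem preimage_fn (V : Z.Opens) : i ⁻¹ᵁ fn i hi V = V := hi.map_functorObj V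

theorem nat (ψ : (Scheme.Modules.pushforward i).obj M ⟶ (Scheme.Modules.pushforward i).obj N) {U U' : X.Opens}
    (h : U' ≤ U) (s : Γ(M, i ⁻¹ᵁ U)) :
    (show Γ(N, i ⁻¹ᵁ U') from ψ.app U' (M.presheaf.map ((Opens.map i.base).map (homOfLE h)).op s)) =
      N.presheaf.map ((Opens.map i.base).map (homOfLE h)).op (show Γ(N, i ⁻¹ᵁ U) from ψ.app U s) :=
  congr($(ψ.mapPresheaf.naturality (homOfLE h).op) s)

/-- The components of the preimage of a morphism of direct images. -/
noncomputable def pre (ψ : (Scheme.Modules.pushforward i).obj M ⟶ (Scheme.Modules.pushforward i).obj N)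
    (V : Z.Opens) : Γ(M, V) →+ Γ(N, V) :=
  ((N.presheaf.map (eqToHom (preimage_fn i hi V).symm).op).hom.comp (ψ.app (fn i hi V)).hom).comp
    (M.presheaf.map (eqToHom (preimage_fn i hi V)).op).hom

theorem pre_apply (ψ : (Scheme.Modules.pushforward i).obj M ⟶ (Scheme.Modules.pushforward i).obj N)
    (V : Z.Opens) (m : Γ(M, V)) :
    pre i hi ψ V m = N.presheaf.map (eqToHom (preimage_fn i hi V).symm).op
      (show Γ(N, i ⁻¹ᵁ fn i hi V) from ψ.app (fn i hi V) (M.presheaf.map (eqToHom (preimage_fn i hi V)).op m)) := rfl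

theorem pre_key (ψ : (Scheme.Modules.pushforward i).obj M ⟶ (Scheme.Modules.pushforward i).obj N)
    {V : Z.Opens} {U : X.Opens} (h : V ≤ i ⁻¹ᵁ U) (s : Γ(M, i ⁻¹ᵁ U)) :
    pre i hi ψ V (M.presheaf.map (homOfLE h).op s) =
      N.presheaf.map (homOfLE h).op (show Γ(N, i ⁻¹ᵁ U) from ψ.app U s) := by
  rw [pre_apply]
  let U' := fn i hi V ⊓ U
  have hV : V ≤ i ⁻¹ᵁ U' := fun z hz => ⟨(preimage_fn i hi V).ge hz, h hz⟩
  have h₁ := nat i ψ (inf_le_left : U' ≤ fn i hi V)
    (M.presheaf.map (eqToHom (preimage_fn i hi V)).op (M.presheaf.map (homOfLE h).op s))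
  have h₂ := nat i ψ (inf_le_right : U' ≤ U) s
  have e : M.presheaf.map ((Opens.map i.base).map (homOfLE (inf_le_left : U' ≤ fn i hi V))).op
      (M.presheaf.map (eqToHom (preimage_fn i hi V)).op (M.presheaf.map (homOfLE h).op s)) =
      M.presheaf.map ((Opens.map i.base).map (homOfLE (inf_le_right : U' ≤ U))).op s := by
    rw [QCoh.map_map, QCoh.map_map]
    exact res_eq M _ _ _
  rw [e, h₂] at h₁
  have h₃ := congrArg (N.presheaf.map (homOfLE hV).op) h₁
  rw [QCoh.map_map, QCoh.map_map] at h₃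
  refine Eq.trans ?_ (h₃.symm.trans ?_)
  · exact res_eq N _ _ _
  · exact res_eq N _ _ _

include hi in
theorem preimage_surjective (hs : ∀ z : Z, Function.Surjective (i.stalkMap z))
    (ψ : (Scheme.Modules.pushforward i).obj M ⟶ (Scheme.Modules.pushforward i).obj N) :
    ∃ φ : M ⟶ N, (Scheme.Modules.pushforward i).map φ = ψ := by
  let β : M.presheaf ⟶ N.presheaf :=
    { app := fun V => AddCommGrpCat.ofHom (pre i hi ψ V.unop)
      naturality := fun V W g => by
        ext m
        let j : i ⁻¹ᵁ fn i hi V.unop = V.unop := preimage_fn i hi V.unop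
        have hW : W.unop ≤ i ⁻¹ᵁ fn i hi V.unop := g.unop.le.trans j.ge
        have h := pre_key i hi ψ hW (M.presheaf.map (eqToHom j).op m)
        show pre i hi ψ W.unop (M.presheaf.map g m) = N.presheaf.map g (pre i hi ψ V.unop m)
        rw [pre_apply i hi ψ V.unop]
        rw [show g = g.unop.op from rfl, QCoh.map_map]
        rw [QCoh.map_map] at h
        refine Eq.trans (congrArg _ (res_eq M _ _ m)) (h.trans (res_eq N _ _ _))
        }
  have hlin : ∀ (V : Z.Opens) (r : Γ(Z, V)) (m : Γ(M, V)), pre i hi ψ V (r • m) = r • pre i hi ψ V m := by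
    intro V r m
    refine TopCat.Presheaf.section_ext ⟨N.presheaf, N.isSheaf⟩ V _ _ fun z hz => ?_
    obtain ⟨t, ht⟩ := hs z (Z.presheaf.germ V z hz r)
    obtain ⟨U, hU, a, rfl⟩ := X.presheaf.exists_germ_eq t
    rw [Scheme.Hom.germ_stalkMap_apply] at ht
    obtain ⟨W, hzW, j₁, j₂, hW⟩ := Z.presheaf.germ_eq z hU hz _ _ ht
    let U₁ := fn i hi V ⊓ U
    have hWU : W ≤ i ⁻¹ᵁ U₁ := fun w hw => ⟨(preimage_fn i hi V).ge (j₂.le hw), j₁.le hw⟩
    let x : Γ(M, i ⁻¹ᵁ U₁) := M.presheaf.map (homOfLE (fun w hw => (preimage_fn i hi V).le hw.1) :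
      i ⁻¹ᵁ U₁ ⟶ V).op m
    let b : Γ(X, U₁) := X.presheaf.map (homOfLE (inf_le_right : U₁ ≤ U)).op a
    have hr : Z.presheaf.map j₂.op r = Z.presheaf.map (homOfLE hWU).op (i.app U₁ b) := by
      have hb : i.app U₁ b = Z.presheaf.map ((Opens.map i.base).map (homOfLE (inf_le_right : U₁ ≤ U))).op
          (i.app U a) := congr($(i.naturality (homOfLE (inf_le_right : U₁ ≤ U)).op) a)
      rw [← hW, hb, ← ConcreteCategory.comp_apply (Z.presheaf.map _) (Z.presheaf.map _), ← Functor.map_comp]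
      exact congrArg (fun q => (Z.presheaf.map q).hom (i.app U a)) (Subsingleton.elim _ _)
    refine (N.presheaf.germ_res_apply j₂ z hzW _).symm.trans (Eq.trans ?_ (N.presheaf.germ_res_apply j₂ z hzW _))
    refine congrArg _ ?_
    have nat' : ∀ y : Γ(M, V), N.presheaf.map j₂.op (pre i hi ψ V y) = pre i hi ψ W (M.presheaf.map j₂.op y) :=
      fun y => (congr($(β.naturality j₂.op) y)).symm
    rw [QCoh.map_smul', nat', nat', QCoh.map_smul', hr]
    have hx : M.presheaf.map j₂.op m = M.presheaf.map (homOfLE hWU).op x := by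
      rw [QCoh.map_map]
      exact res_eq M _ _ m
    rw [hx, ← QCoh.map_smul']
    have hk := pre_key i hi ψ hWU (i.app U₁ b • x)
    rw [hk, pre_key i hi ψ hWU x]
    have hs' : (show Γ(N, i ⁻¹ᵁ U₁) from ψ.app U₁ (i.app U₁ b • x)) =
        i.app U₁ b • (show Γ(N, i ⁻¹ᵁ U₁) from ψ.app U₁ x) :=
      Scheme.Modules.Hom.app_smul ψ b x
    rw [hs', QCoh.map_smul']
  let φ : M ⟶ N := ⟨PresheafOfModules.homMk β (fun V r m => hlin V.unop r m)⟩
  refine ⟨φ, Scheme.Modules.hom_ext _ _ fun U => ?_⟩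
  ext s
  show pre i hi ψ (i ⁻¹ᵁ U) s = ψ.app U s
  have h := pre_key i hi ψ (le_refl (i ⁻¹ᵁ U)) s
  rw [res_self M, res_self N] at h
  exact h

include hi in
theorem pushforward_full (hs : ∀ z : Z, Function.Surjective (i.stalkMap z)) :
    (Scheme.Modules.pushforward i).Full :=
  ⟨fun {M N} ψ => preimage_surjective i hi hs ψ⟩

include hi in
theorem pushforward_faithful : (Scheme.Modules.pushforward i).Faithful := ⟨fun {M N} a b h =>
  Scheme.Modules.hom_ext _ _ fun V => by
    obtain ⟨O, hO, hOV⟩ := hi.isOpen_iff.1 V.2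
    obtain rfl : (TopologicalSpace.Opens.map i.base).obj ⟨O, hO⟩ = V := TopologicalSpace.Opens.ext hOV
    exact congrArg (fun t => Scheme.Modules.Hom.app t ⟨O, hO⟩) h⟩

theorem isIso_counit (hi : IsInducing i.base) (hs : ∀ z : Z, Function.Surjective (i.stalkMap z)) (F : Z.Modules) :
    IsIso ((Scheme.Modules.pullbackPushforwardAdjunction i).counit.app F) := by
  haveI := pushforward_full i hi hs
  haveI := pushforward_faithful i hi
  infer_instance

end Groth.Agent.H4GenFib
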